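import Groth.Agent.EtPurLib.DivLocal
import Groth.Agent.EtDepthLib.TorsionConst
import Groth.Agent.EtDepthLib.Points
import Groth.Agent.SmoothBCLib.VCLocAcyclic
import Groth.Agent.S0540
import Groth.Agent.S0541
import Groth.Agent.S0538
import Groth.Agent.S0539
import Groth.Agent.EtPtsLib.RecollEquiv

/-!
# Strict localizations at the points of a regular divisor
-/

set_option autoImplicit false
set_option linter.style.haveILetI false
set_option backward.isDefEq.respectTransparency false
set_option backward.isDefEq.respectTransparency.types false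
set_option maxHeartbeats 1000000

universe u

open CategoryTheory CategoryTheory.Limits AlgebraicGeometry Opposite IsLocalRing
open Groth.Agent.EtPtsLib Groth.Agent.EtTraceLib

noncomputable section

namespace Groth.Agent.EtPurLib

/-- Strict henselizations of regular local rings are regular. -/
theorem isRegular_strictHenselization (O R : Type u) [CommRing O] [IsRegularLocalRing O] [CommRing R] [IsLocalRing R]
    [Algebra O R] [IsLocalHom (algebraMap O R)] [Hensel.IsStrictHenselization O R] : IsRegularLocalRing R := by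
  haveI : IsNoetherianRing R := (S0540.result O R).1 inferInstance
  refine IsRegularLocalRing.of_spanFinrank_maximalIdeal_le _ ?_
  rw [S0541.result O R, ← IsRegularLocalRing.spanFinrank_maximalIdeal (R := O), ← S0538.result O R]
  exact_mod_cast Ideal.spanFinrank_map_le_of_fg (algebraMap O R) (IsNoetherian.noetherian (maximalIdeal O))

/-- Elements outside the square of the maximal ideal stay outside in the strict henselization. -/
theorem algebraMap_notMem_sq (O R : Type u) [CommRing O] [IsLocalRing O] [CommRing R] [IsLocalRing R]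
    [Algebra O R] [IsLocalHom (algebraMap O R)] [Hensel.IsStrictHenselization O R] {t : O}
    (ht : t ∉ maximalIdeal O ^ 2) : algebraMap O R t ∉ maximalIdeal R ^ 2 := fun h => ht (by
  haveI := S0539.result O R
  rw [← S0538.result O R, ← Ideal.map_pow, ← Ideal.mem_comap, Ideal.comap_map_eq_self_of_faithfullyFlat] at h
  exact h)

/-- A morphism is an isomorphism if it is bijective on the stalk at some geometric point over every point. -/
theorem isIso_of_points {X : Scheme.{u}} {A B : EtCoh.Ab X} (a : A ⟶ B)
    (h : ∀ x : X, ∃ (Ω : Type u) (_ : Field Ω) (_ : IsSepClosed Ω) (ξ : Spec (CommRingCat.of Ω) ⟶ X),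
      ξ default = x ∧ Function.Bijective ((EtCoh.stalk ξ).map a)) : IsIso a := by
  have hk : IsZero (kernel a) := SmoothBCLib.isZero_of_points _ fun x => by
    obtain ⟨Ω, _, _, ξ, hξ, hb⟩ := h x
    haveI : IsIso ((EtCoh.stalk ξ).map a) := (ConcreteCategory.isIso_iff_bijective _).2 hb
    exact ⟨Ω, inferInstance, inferInstance, ξ, hξ,
      (isZero_kernel_of_mono ((EtCoh.stalk ξ).map a)).of_iso (PreservesKernel.iso _ a)⟩
  have hc : IsZero (cokernel a) := SmoothBCLib.isZero_of_points _ fun x => by
    obtain ⟨Ω, _, _, ξ, hξ, hb⟩ := h x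
    haveI : IsIso ((EtCoh.stalk ξ).map a) := (ConcreteCategory.isIso_iff_bijective _).2 hb
    exact ⟨Ω, inferInstance, inferInstance, ξ, hξ,
      (isZero_cokernel_of_epi ((EtCoh.stalk ξ).map a)).of_iso (PreservesCokernel.iso _ a)⟩
  haveI : Mono a := Preadditive.mono_of_kernel_zero (hk.eq_of_src _ _)
  haveI : Epi a := Preadditive.epi_of_cokernel_zero (hc.eq_of_tgt _ _)
  exact isIso_of_mono_of_epi a

variable {X D U : Scheme.{u}} [IsLocallyNoetherian X] (i : D ⟶ X) [IsClosedImmersion i]
  (hX : ∀ x : X, IsRegularLocalRing (X.presheaf.stalk x))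
  (hD : ∀ y : D, IsRegularLocalRing (D.presheaf.stalk y))
  (hc : ∀ y : D, ringKrullDim (X.presheaf.stalk (i.base y)) = ringKrullDim (D.presheaf.stalk y) + 1)
  (j : U ⟶ X) [IsOpenImmersion j] (hU : Set.range j = (Set.range i)ᶜ)

include hU in
/-- The trace of the complement on a strict localization. -/
theorem range_snd_specOf (W : X.affineOpens) (t : Γ(X, W.1)) (ht : i.ker.ideal W = Ideal.span {t}) (x : X)
    (hx : x ∈ W.1) (R : Type u) [CommRing R] [IsLocalRing R] [Algebra (X.presheaf.stalk x) R] :
    Set.range (pullback.snd j (Hens2.specOf X x R)) =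
      (PrimeSpectrum.basicOpen (algebraMap (X.presheaf.stalk x) R (X.presheaf.germ W.1 x hx t)) : Set (PrimeSpectrum R)) := by
  rw [IsOpenImmersion.range_pullbackSnd]
  refine Set.ext fun p => ?_
  show Hens2.specOf X x R p ∈ Set.range j ↔ _
  let q : PrimeSpectrum (X.presheaf.stalk x) := PrimeSpectrum.comap (algebraMap (X.presheaf.stalk x) R) p
  have hW : X.fromSpecStalk x q ∈ W.1 := by
    have h : X.fromSpecStalk x q ⤳ x := by
      have := (Scheme.range_fromSpecStalk (x := x)).le (Set.mem_range_self q)
      exact this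
    exact h.mem_open W.1.2 hx
  show X.fromSpecStalk x q ∈ Set.range j ↔ _
  rw [hU, Set.mem_compl_iff, mem_range_iff i W t ht hW, not_not]
  change q ∈ X.fromSpecStalk x ⁻¹ᵁ X.basicOpen t ↔ _
  rw [Scheme.preimage_basicOpen, Scheme.fromSpecStalk_app hx]
  simp only [CommRingCat.comp_apply]
  rw [Scheme.basicOpen_res, Scheme.ΓSpecIso_inv]
  erw [basicOpen_eq_of_affine]
  simp [q, hx]
  exact ⟨fun h h' => h.2 (Set.singleton_subset_iff.1 h'), fun h => ⟨hW, fun h' => h (Set.singleton_subset_iff.2 h')⟩⟩

include hX hD hc hU in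
/-- The trace of the complement on a strict localization at a point of the divisor. -/
theorem exists_param (x : X) (hxD : x ∈ Set.range i) (R : Type u) [CommRing R] [IsLocalRing R]
    [Algebra (X.presheaf.stalk x) R] [IsLocalHom (algebraMap (X.presheaf.stalk x) R)]
    [Hensel.IsStrictHenselization (X.presheaf.stalk x) R] :
    IsRegularLocalRing R ∧ ∃ t : R, t ∈ maximalIdeal R ∧ t ∉ maximalIdeal R ^ 2 ∧
      Set.range (pullback.snd j (Hens2.specOf X x R)) = (PrimeSpectrum.basicOpen t : Set (PrimeSpectrum R)) := by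
  obtain ⟨y, rfl⟩ := hxD
  haveI := hX (i y)
  obtain ⟨W, hxW, t, -, ht⟩ := isEffCartier i hX hD hc (i y)
  obtain ⟨h1, h2⟩ := germ_mem_notMem_sq i hX hD hc W t ht y hxW
  exact ⟨isRegular_strictHenselization (X.presheaf.stalk (i y)) R, _, map_nonunit (algebraMap _ R) _ h1,
    algebraMap_notMem_sq _ R h2, range_snd_specOf i j hU W t ht (i y) hxW R⟩

include hX hD hc hU in
theorem connectedSpace_punctured (x : X) (hxD : x ∈ Set.range i) (R : Type u) [CommRing R] [IsLocalRing R]
    [Algebra (X.presheaf.stalk x) R] [IsLocalHom (algebraMap (X.presheaf.stalk x) R)]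
    [Hensel.IsStrictHenselization (X.presheaf.stalk x) R] :
    ConnectedSpace ↥(pullback j (Hens2.specOf X x R)) := by
  obtain ⟨hR, t, -, ht2, hrange⟩ := exists_param i hX hD hc j hU x hxD R
  haveI := hR
  haveI := RegLocal.isDomain (R := R)
  let h' := pullback.snd j (Hens2.specOf X x R)
  haveI : Nonempty ↥(pullback j (Hens2.specOf X x R)) := by
    have h0 : (⊥ : PrimeSpectrum R) ∈ (PrimeSpectrum.basicOpen t : Set (PrimeSpectrum R)) := fun h => ht2 (by
      rw [show t = 0 from h]; exact zero_mem _)
    rw [← hrange] at h0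
    exact ⟨h0.choose⟩
  haveI : IrreducibleSpace (Spec (CommRingCat.of R)) := inferInstanceAs (IrreducibleSpace (PrimeSpectrum R))
  haveI : PreirreducibleSpace ↥(pullback j (Hens2.specOf X x R)) :=
    ⟨fun u v hu hv ⟨a, _, ha⟩ ⟨b, _, hb⟩ => by
      obtain ⟨_, -, ⟨z, hz, rfl⟩, z', hz', hzz⟩ := (PreirreducibleSpace.isPreirreducible_univ (X := Spec (CommRingCat.of R)))
        (h' '' u) (h' '' v) (h'.isOpenEmbedding.isOpenMap _ hu) (h'.isOpenEmbedding.isOpenMap _ hv)
        ⟨h' a, trivial, a, ha, rfl⟩ ⟨h' b, trivial, b, hb, rfl⟩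
      exact ⟨z, trivial, hz, h'.isOpenEmbedding.injective hzz ▸ hz'⟩⟩
  haveI : IrreducibleSpace ↥(pullback j (Hens2.specOf X x R)) := { toNonempty := inferInstance }
  infer_instance

include hX hD hc hU in
/-- Constant sheaves extend uniquely across a regular divisor. -/
theorem isIso_unit_cst [QuasiCompact j] (M : AddCommGrpCat.{u + 1}) :
    IsIso ((EtCoh.pullPushAdj j).unit.app (cSh X M)) := by
  refine isIso_of_points _ fun x => ?_
  obtain ⟨R, _, _, _, _, hR⟩ := Henselization.exists_strictHenselization (R := X.presheaf.stalk x)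
  haveI := hR
  haveI : IsSepClosed (ResidueField R) :=
    (Hensel.IsStrictHenselization.isSepClosure (R := X.presheaf.stalk x) (S := R)).sep_closed
  refine ⟨ResidueField R, inferInstance, inferInstance, Hens2.geomPt X x R, SmoothBCLib.geomPt_default x R, ?_⟩
  by_cases hxD : x ∈ Set.range i
  · haveI := connectedSpace_punctured i hX hD hc j hU x hxD R
    haveI : PreservesFiniteLimits (EtCoh.pull (pullback.snd j (Hens2.specOf X x R))) := S0101.result _
    exact SmoothBCLib.bijective_stalk_unit_of_bijective j (cSh X M) x R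
      (SmoothBCLib.bijective_Hpull_zero_isConstOn R _ _
        (((EtDepthLib.isConstOn_cst X M).pull (Hens2.specOf X x R)).map (EtCore.bcTopIso _).inv))
  · obtain ⟨ζ, hζ⟩ := exists_comp_eq j (Hens2.geomPt X x R) (by
      rw [SmoothBCLib.geomPt_default x R, hU]; exact hxD)
    haveI := isIso_stalk_unit_immersion j ζ (cSh X M)
    rw [← hζ]
    exact ConcreteCategory.bijective_of_isIso ((EtCoh.stalk (ζ ≫ j)).map ((EtCoh.pullPushAdj j).unit.app (cSh X M)))

end Groth.Agent.EtPurLib
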