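import Groth.Agent.EtPurLib.Mu
import Groth.Agent.S0108
import Groth.Agent.RDerLib.Horseshoe
import Groth.Prelude.Def_SixF3
import Mathlib.AlgebraicGeometry.Morphisms.Affine

/-!
# The Kummer class of a regular divisor
-/

set_option autoImplicit false
set_option linter.style.haveILetI false
set_option backward.isDefEq.respectTransparency false
set_option backward.isDefEq.respectTransparency.types false
set_option maxHeartbeats 1000000

universe u

open CategoryTheory CategoryTheory.Limits AlgebraicGeometry Opposite IsLocalRing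
open Groth.Agent.EtPtsLib Groth.Agent.EtTraceLib

noncomputable section

namespace Groth.Agent.EtPurLib

variable {X U : Scheme.{u}} (j : U ⟶ X)

/-- Restriction of units to the open subscheme. -/
def resUnits : EtCoh.Gm X ⟶ (EtCoh.push j).obj (EtCoh.Gm U) :=
  ⟨{ app := fun V => EtCoh.ΓUnits.map (pullback.fst V.unop.hom j).op
     naturality := fun V V' f => by
      change EtCoh.ΓUnits.map f.unop.left.op ≫ EtCoh.ΓUnits.map _ =
        EtCoh.ΓUnits.map _ ≫ EtCoh.ΓUnits.map ((EtCoh.bc j).map f.unop).left.op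
      rw [← Functor.map_comp, ← Functor.map_comp, ← op_comp, ← op_comp]
      exact congrArg (fun q => EtCoh.ΓUnits.map (Quiver.Hom.op q))
        (pullback.lift_fst (pullback.fst _ _ ≫ f.unop.left) (pullback.snd _ _) _).symm }⟩

/-- The Kummer boundary on the complement. -/
theorem exists_boundary [EtCoh.BCCont j] (n : ℕ) (hX : IsUnit (n : Γ(X, ⊤))) :
    ∃ (d : (EtCoh.push j).obj (EtCoh.Gm U) ⟶ (EtCoh.Rpush j 1).obj (EtCoh.mu U n))
      (w : (EtCoh.push j).map (EtCoh.powMap U n) ≫ d = 0),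
      (ShortComplex.mk _ d w).Exact ∧ resUnits j ≫ d = 0 := by
  haveI : PreservesFiniteLimits (EtCoh.push j) := by
    haveI := (EtCoh.pullPushAdj j).rightAdjoint_preservesLimits
    infer_instance
  haveI : (EtCoh.push j).Additive := Functor.additive_of_preserves_binary_products _
  have hU : IsUnit (n : Γ(U, ⊤)) := by simpa using hX.map j.appTop.hom
  have hS := EtSix.kummerShortExact (S0108.result U n hU)
  obtain ⟨Δ⟩ := RDerLib.nonempty_derivedLES (EtCoh.push j)
  let e := (EtCoh.push j).rightDerivedZeroIsoSelf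
  let δ := Δ.δ _ hS 0 1 rfl
  let d : (EtCoh.push j).obj (EtCoh.Gm U) ⟶ (EtCoh.Rpush j 1).obj (EtCoh.mu U n) := e.inv.app (EtCoh.Gm U) ≫ δ
  have w : (EtCoh.push j).map (EtCoh.powMap U n) ≫ d = 0 := by
    rw [← Category.assoc, e.inv.naturality, Category.assoc]
    exact (congrArg (_ ≫ ·) (Δ.comp_δ _ hS 0 1 rfl)).trans comp_zero
  refine ⟨d, w, ShortComplex.exact_of_iso (ShortComplex.isoMk
      (S₁ := ShortComplex.mk _ _ (Δ.comp_δ _ hS 0 1 rfl)) (S₂ := ShortComplex.mk _ d w)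
      (e.app (EtCoh.Gm U)) (e.app (EtCoh.Gm U)) (Iso.refl _) ?_ ?_)
    (Δ.exact₃ _ hS 0 1 rfl), ?_⟩
  · exact (e.hom.naturality _).symm
  · show e.hom.app _ ≫ e.inv.app _ ≫ δ = δ ≫ 𝟙 _
    rw [e.hom_inv_id_app_assoc, Category.comp_id]
  · haveI := S0108.result X n hX
    have h1 : EtCoh.powMap X n ≫ resUnits j = resUnits j ≫ (EtCoh.push j).map (EtCoh.powMap U n) := by
      rw [EtCoh.powMap, EtCoh.powMap, Functor.map_nsmul, CategoryTheory.Functor.map_id,
        Preadditive.nsmul_comp, Preadditive.comp_nsmul, Category.id_comp, Category.comp_id]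
    rw [← cancel_epi (EtCoh.powMap X n), comp_zero, ← Category.assoc, h1, Category.assoc, w, comp_zero]

section Cls

variable {R : EtCoh.Ab X} (d : (EtCoh.push j).obj (EtCoh.Gm U) ⟶ R)

/-- Functions invertible over the complement, as sections of the direct image of the units. -/
def unitSec (V : X.Etale) (s : Γ(V.left, ⊤)) (hs : IsUnit ((pullback.fst V.hom j).appTop s)) :
    EtCoh.sect ((EtCoh.push j).obj (EtCoh.Gm U)) V :=
  ⟨Additive.ofMul hs.unit⟩

/-- The class of a function invertible over the complement. -/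
def cls (V : X.Etale) (s : Γ(V.left, ⊤)) (hs : IsUnit ((pullback.fst V.hom j).appTop s)) : EtCoh.sect R V :=
  d.hom.app (op V) (unitSec j V s hs)

theorem bcFst_appTop {V V' : X.Etale} (f : V' ⟶ V) (s : Γ(V.left, ⊤)) :
    ((EtCoh.bc j).map f).left.appTop ((pullback.fst V.hom j).appTop s) =
      (pullback.fst V'.hom j).appTop (f.left.appTop s) := by
  have e : ((EtCoh.bc j).map f).left ≫ pullback.fst V.hom j = pullback.fst V'.hom j ≫ f.left :=
    pullback.lift_fst (pullback.fst _ _ ≫ f.left) (pullback.snd _ _) _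
  have h := congrArg (fun q : ((EtCoh.bc j).obj V').left ⟶ V.left => q.appTop s) e
  simp only [Scheme.Hom.comp_appTop, CommRingCat.comp_apply] at h
  exact h

theorem isUnit_map {V V' : X.Etale} (f : V' ⟶ V) (s : Γ(V.left, ⊤))
    (hs : IsUnit ((pullback.fst V.hom j).appTop s)) :
    IsUnit ((pullback.fst V'.hom j).appTop (f.left.appTop s)) := by
  rw [← bcFst_appTop]
  exact hs.map ((EtCoh.bc j).map f).left.appTop.hom

theorem map_cls {V V' : X.Etale} (f : V' ⟶ V) (s : Γ(V.left, ⊤))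
    (hs : IsUnit ((pullback.fst V.hom j).appTop s)) :
    R.obj.map f.op (cls j d V s hs) = cls j d V' (f.left.appTop s) (isUnit_map j f s hs) := by
  refine (NatTrans.naturality_apply d.hom f.op (unitSec j V s hs)).symm.trans (congrArg _ ?_)
  exact ULift.ext _ _ (congrArg Additive.ofMul (Units.ext (bcFst_appTop j f s)))

theorem cls_congr (V : X.Etale) {s s' : Γ(V.left, ⊤)} (e : s = s') (hs : IsUnit ((pullback.fst V.hom j).appTop s))
    (hs' : IsUnit ((pullback.fst V.hom j).appTop s')) : cls j d V s hs = cls j d V s' hs' := by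
  subst e; rfl

theorem cls_pow (V : X.Etale) (s : Γ(V.left, ⊤)) (hs : IsUnit ((pullback.fst V.hom j).appTop s)) (k : ℕ)
    (hk : IsUnit ((pullback.fst V.hom j).appTop (s ^ k))) : cls j d V (s ^ k) hk = k • cls j d V s hs := by
  have e : unitSec j V (s ^ k) hk = k • unitSec j V s hs :=
    ULift.ext _ _ (congrArg Additive.ofMul (Units.ext ((map_pow _ _ _).trans (Units.val_pow_eq_pow_val hs.unit k).symm)))
  rw [cls, e, map_nsmul, cls]

theorem cls_unit_mul (hd : resUnits j ≫ d = 0) (V : X.Etale) (v : Γ(V.left, ⊤)ˣ) (s : Γ(V.left, ⊤))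
    (hs : IsUnit ((pullback.fst V.hom j).appTop s)) (hs' : IsUnit ((pullback.fst V.hom j).appTop ((v : Γ(V.left, ⊤)) * s))) :
    cls j d V ((v : Γ(V.left, ⊤)) * s) hs' = cls j d V s hs := by
  have h0 : d.hom.app (op V) ((resUnits j).hom.app (op V) ⟨Additive.ofMul v⟩) = 0 :=
    ConcreteCategory.congr_hom (NatTrans.congr_app (congrArg (fun a => a.hom) hd) (op V)) _
  have h1 : unitSec j V ((v : Γ(V.left, ⊤)) * s) hs' =
      (resUnits j).hom.app (op V) ⟨Additive.ofMul v⟩ + unitSec j V s hs := by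
    refine ULift.ext _ _ (congrArg Additive.ofMul (Units.ext ?_))
    exact map_mul (pullback.fst V.hom j).appTop.hom (v : Γ(V.left, ⊤)) s
  rw [cls, h1, map_add, h0, zero_add]
  rfl

end Cls

/-- Evaluation of functions along a composite. -/
theorem appTop_appLE {P Q : Scheme.{u}} (g : P ⟶ Q) (f : Q ⟶ X) (f' : P ⟶ X) (e : g ≫ f = f') (W : X.Opens)
    (h : ⊤ ≤ f ⁻¹ᵁ W) (h' : ⊤ ≤ f' ⁻¹ᵁ W) (t : Γ(X, W)) :
    g.appTop (f.appLE W ⊤ h t) = f'.appLE W ⊤ h' t := by
  subst e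
  rw [← CommRingCat.comp_apply, Scheme.Hom.appTop, Scheme.Hom.app_eq_appLE, Scheme.Hom.appLE_comp_appLE]
  rfl

/-- Functions differing by a unit still do so after evaluation. -/
theorem appLE_eq_mul {P : Scheme.{u}} (q : P ⟶ X) (A B : X.Opens) (ta : Γ(X, A)) (tb : Γ(X, B)) (v : Γ(X, A ⊓ B)ˣ)
    (hv : X.presheaf.map (homOfLE (inf_le_left : A ⊓ B ≤ A)).op ta =
      (v : Γ(X, A ⊓ B)) * X.presheaf.map (homOfLE (inf_le_right : A ⊓ B ≤ B)).op tb)
    (hab : ⊤ ≤ q ⁻¹ᵁ (A ⊓ B)) (hA : ⊤ ≤ q ⁻¹ᵁ A) (hB : ⊤ ≤ q ⁻¹ᵁ B) :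
    q.appLE A ⊤ hA ta = (Units.map (q.appLE (A ⊓ B) ⊤ hab).hom.toMonoidHom v : Γ(P, ⊤)) * q.appLE B ⊤ hB tb := by
  rw [← Scheme.Hom.map_appLE q hab (homOfLE inf_le_left).op, CommRingCat.comp_apply, hv, map_mul,
    ← CommRingCat.comp_apply, Scheme.Hom.map_appLE]
  rfl

/-- A function is invertible after pulling back into its basic open. -/
theorem isUnit_appLE {P : Scheme.{u}} (f : P ⟶ X) (W : X.Opens) (t : Γ(X, W)) (h : ⊤ ≤ f ⁻¹ᵁ W)
    (hr : ∀ p, f p ∈ X.basicOpen t) : IsUnit (f.appLE W ⊤ h t) := by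
  have h1 : IsUnit (X.presheaf.map (homOfLE (X.basicOpen_le t)).op t) := X.toRingedSpace.isUnit_res_basicOpen t
  have h2 := h1.map (f.appLE (X.basicOpen t) ⊤ fun p _ => hr p).hom
  rwa [← CommRingCat.comp_apply, Scheme.Hom.map_appLE] at h2

variable {D : Scheme.{u}} (i : D ⟶ X) [IsClosedImmersion i] (hUr : Set.range j = (Set.range i)ᶜ)

include hUr in
theorem isUnit_equation (V : X.Etale) (W : X.affineOpens) (t : Γ(X, W.1)) (ht : i.ker.ideal W = Ideal.span {t})
    (h : ⊤ ≤ V.hom ⁻¹ᵁ W.1) : IsUnit ((pullback.fst V.hom j).appTop (V.hom.appLE W.1 ⊤ h t)) := by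
  have e : (pullback.fst V.hom j).appTop (V.hom.appLE W.1 ⊤ h t) =
      (pullback.fst V.hom j ≫ V.hom).appLE W.1 ⊤ (fun p _ => h trivial) t := appTop_appLE _ _ _ rfl W.1 h _ t
  rw [e]
  refine isUnit_appLE _ W.1 t _ fun p => ?_
  have hW : (pullback.fst V.hom j ≫ V.hom) p ∈ W.1 := h (x := pullback.fst V.hom j p) trivial
  by_contra hp
  have hmem : (pullback.fst V.hom j ≫ V.hom) p ∈ Set.range j :=
    ⟨pullback.snd V.hom j p, (congrArg (fun q : pullback V.hom j ⟶ X => q p) pullback.condition.symm)⟩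
  exact hUr.le hmem ((mem_range_iff i W t ht hW).2 hp)

variable [IsLocallyNoetherian X] [X.IsSeparated]

  (hX : ∀ x : X, IsRegularLocalRing (X.presheaf.stalk x))
  (hD : ∀ y : D, IsRegularLocalRing (D.presheaf.stalk y))
  (hc : ∀ y : D, ringKrullDim (X.presheaf.stalk (i.base y)) = ringKrullDim (D.presheaf.stalk y) + 1)

include hX hD hc in
/-- Two local equations differ by a unit. -/
theorem exists_unit_mul (Wa Wb : X.affineOpens) (ta : Γ(X, Wa.1)) (tb : Γ(X, Wb.1))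
    (ha : i.ker.ideal Wa = Ideal.span {ta}) (hb : i.ker.ideal Wb = Ideal.span {tb}) :
    ∃ v : Γ(X, Wa.1 ⊓ Wb.1)ˣ, X.presheaf.map (homOfLE (inf_le_left : Wa.1 ⊓ Wb.1 ≤ Wa.1)).op ta =
      (v : Γ(X, Wa.1 ⊓ Wb.1)) * X.presheaf.map (homOfLE (inf_le_right : Wa.1 ⊓ Wb.1 ≤ Wb.1)).op tb := by
  have hW : IsAffineOpen (Wa.1 ⊓ Wb.1) := Wa.2.inf Wb.2
  let W : X.affineOpens := ⟨Wa.1 ⊓ Wb.1, hW⟩
  have h1 := i.ker.map_ideal (U := W) (V := Wa) (show W ≤ Wa from (inf_le_left : Wa.1 ⊓ Wb.1 ≤ Wa.1))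
  have h2 := i.ker.map_ideal (U := W) (V := Wb) (show W ≤ Wb from (inf_le_right : Wa.1 ⊓ Wb.1 ≤ Wb.1))
  rw [ha, Ideal.map_span, Set.image_singleton] at h1
  rw [hb, Ideal.map_span, Set.image_singleton] at h2
  let a := X.presheaf.map (homOfLE (inf_le_left : W.1 ≤ Wa.1)).op ta
  let b := X.presheaf.map (homOfLE (inf_le_right : W.1 ≤ Wb.1)).op tb
  have h3 : Ideal.span {a} = Ideal.span {b} := h1.trans h2.symm
  obtain ⟨v, hv⟩ := Ideal.mem_span_singleton'.1 (h3.le (Ideal.mem_span_singleton_self a))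
  obtain ⟨w, hw⟩ := Ideal.mem_span_singleton'.1 (h3.ge (Ideal.mem_span_singleton_self b))
  have hb0 : ∀ z : Γ(X, W.1), z * b = 0 → z = 0 := fun z hz => by
    refine TopCat.Presheaf.section_ext X.sheaf W.1 z 0 fun x hxW => ?_
    change X.presheaf.germ W.1 x hxW z = X.presheaf.germ W.1 x hxW 0
    haveI := hX x
    haveI := RegLocal.isDomain (R := X.presheaf.stalk x)
    have hne : X.presheaf.germ W.1 x hxW b ≠ 0 := by
      by_cases hxD : x ∈ Set.range i
      · obtain ⟨y, rfl⟩ := hxD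
        exact fun h => (germ_mem_notMem_sq i hX hD hc W b h2.symm y hxW).2 (h ▸ zero_mem _)
      · exact fun h => hxD ((mem_range_iff i W b h2.symm hxW).2 fun hb' => not_isUnit_zero
          (h ▸ (X.mem_basicOpen b x hxW).1 hb'))
    have h0 := congrArg (X.presheaf.germ W.1 x hxW) hz
    rw [map_mul, map_zero] at h0
    rw [map_zero]
    exact (mul_eq_zero.1 h0).resolve_right hne
  have hvw : v * w = 1 := sub_eq_zero.1 (hb0 _ (by linear_combination w * hv + hw))
  exact ⟨⟨v, w, hvw, by rw [mul_comm]; exact hvw⟩, hv.symm⟩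

include hX hD hc hUr in
/-- The class of the divisor. -/
theorem exists_class {R : EtCoh.Ab X} (d : (EtCoh.push j).obj (EtCoh.Gm U) ⟶ R) (hd : resUnits j ≫ d = 0) :
    ∃ c : EtCoh.sect R (EtCoh.top X), ∀ x : X, ∃ (V : X.Etale) (v : V.left) (f : V ⟶ EtCoh.top X) (W : X.affineOpens)
      (t : Γ(X, W.1)) (ht : i.ker.ideal W = Ideal.span {t}) (h : ⊤ ≤ V.hom ⁻¹ᵁ W.1),
      V.hom v = x ∧ R.obj.map f.op c = cls j d V (V.hom.appLE W.1 ⊤ h t) (isUnit_equation j i hUr V W t ht h) := by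
  have hE := isEffCartier i hX hD hc
  choose W hW t _ ht using hE
  let V : X → X.Etale := fun a => openSub (EtCoh.top X) (W a).1
  have hV : ∀ a, (⊤ : (V a).left.Opens) ≤ (V a).hom ⁻¹ᵁ (W a).1 := fun a p _ => (p : (W a).1.toScheme).2
  let s : ∀ a, EtCoh.sect R (V a) := fun a =>
    cls j d (V a) ((V a).hom.appLE (W a).1 ⊤ (hV a) (t a)) (isUnit_equation j i hUr (V a) (W a) (t a) (ht a) (hV a))
  let F := (sheafCompose X.smallEtaleTopology (forget AddCommGrpCat.{u + 1})).obj R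
  have hR : Sieve.generate (Presieve.ofArrows V fun a => openIncl (EtCoh.top X) (W a).1) ∈
      X.smallEtaleTopology (EtCoh.top X) := covering_of_points _ fun x =>
    ⟨_, openIncl (EtCoh.top X) (W x).1, (⟨x, hW x⟩ : (W x).1.toScheme),
      Sieve.le_generate _ _ _ (Presieve.ofArrows.mk x), rfl⟩
  have hs : Presieve.IsSheafFor F.obj (Presieve.ofArrows V fun a => openIncl (EtCoh.top X) (W a).1) :=
    (Presieve.isSheafFor_iff_generate _).2 ((isSheaf_iff_isSheaf_of_type _ _).1 F.property _ hR)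
  obtain ⟨c, hc', -⟩ := (Presieve.isSheafFor_arrows_iff _ _).1 hs s fun a b Z ga gb _ => by
    show R.obj.map ga.op (s a) = R.obj.map gb.op (s b)
    simp only [s]
    rw [map_cls, map_cls]
    obtain ⟨v, hv⟩ := exists_unit_mul i hX hD hc (W a) (W b) (t a) (t b) (ht a) (ht b)
    have hab : (⊤ : Z.left.Opens) ≤ Z.hom ⁻¹ᵁ ((W a).1 ⊓ (W b).1) := fun p _ => by
      constructor
      · rw [← MorphismProperty.Over.w ga]; exact hV a trivial
      · rw [← MorphismProperty.Over.w gb]; exact hV b trivial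
    let v' : Γ(Z.left, ⊤)ˣ := Units.map (Z.hom.appLE ((W a).1 ⊓ (W b).1) ⊤ hab).hom.toMonoidHom v
    have hga : ∀ (k : X) (g : Z ⟶ V k) (hk : ⊤ ≤ Z.hom ⁻¹ᵁ (W k).1) (z : Γ(X, (W k).1)),
        g.left.appTop ((V k).hom.appLE (W k).1 ⊤ (hV k) z) = Z.hom.appLE (W k).1 ⊤ hk z := fun k g hk z =>
      appTop_appLE g.left (V k).hom Z.hom (MorphismProperty.Over.w g) (W k).1 (hV k) hk z
    have e1 : ga.left.appTop ((V a).hom.appLE (W a).1 ⊤ (hV a) (t a)) =
        v' * gb.left.appTop ((V b).hom.appLE (W b).1 ⊤ (hV b) (t b)) := by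
      have hA : (⊤ : Z.left.Opens) ≤ Z.hom ⁻¹ᵁ (W a).1 := fun p hp => (hab hp).1
      have hB : (⊤ : Z.left.Opens) ≤ Z.hom ⁻¹ᵁ (W b).1 := fun p hp => (hab hp).2
      exact (hga a ga hA (t a)).trans ((appLE_eq_mul Z.hom (W a).1 (W b).1 (t a) (t b) v hv hab hA hB).trans
        (congrArg (fun z => (v' : Γ(Z.left, ⊤)) * z) (hga b gb hB (t b)).symm))
    exact (cls_congr j d Z e1 _ (e1 ▸ isUnit_map j ga _ (isUnit_equation j i hUr (V a) (W a) (t a) (ht a) (hV a)))).trans (cls_unit_mul j d hd Z v' _ _ _)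
  exact ⟨c, fun x => ⟨V x, (⟨x, hW x⟩ : (W x).1.toScheme), openIncl (EtCoh.top X) (W x).1, W x, t x, ht x, hV x, rfl, hc' x⟩⟩

end Groth.Agent.EtPurLib
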