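import Groth.Agent.CILib.Cut
import Groth.Agent.CanonFacLib.Codim
import Groth.Agent.EtAlgEasy.ConormalStalk
import Groth.Agent.IdealStalkLib.Comap
import Groth.Agent.S1570

/-!
# Local equations of a regular divisor
-/

set_option autoImplicit false
set_option backward.isDefEq.respectTransparency false
set_option linter.style.haveILetI false

universe u

open CategoryTheory AlgebraicGeometry IsLocalRing

noncomputable section

namespace Groth.Agent.EtPurLib

/-- The kernel of a surjection of regular local rings dropping the dimension by one. -/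
theorem exists_gen_ker {A B : Type u} [CommRing A] [IsRegularLocalRing A] [CommRing B] [IsRegularLocalRing B]
    (ρ : A →+* B) (hρ : Function.Surjective ρ) (hd : ringKrullDim B + 1 = ringKrullDim A) :
    ∃ t : A, RingHom.ker ρ = Ideal.span {t} ∧ t ≠ 0 ∧ t ∈ maximalIdeal A ∧ t ∉ maximalIdeal A ^ 2 := by
  obtain ⟨d, hA⟩ := CILib.exists_nat_ringKrullDim' A
  obtain ⟨e, hB⟩ := CILib.exists_nat_ringKrullDim' B
  have hde : e + 1 = d := by
    rw [hA, hB] at hd
    exact_mod_cast hd
  have hne : RingHom.ker ρ ≠ ⊥ := fun h => by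
    have hinj : Function.Injective ρ := (RingHom.injective_iff_ker_eq_bot ρ).2 h
    have := ringKrullDim_eq_of_ringEquiv (RingEquiv.ofBijective ρ ⟨hinj, hρ⟩)
    rw [hA, hB] at this
    have : d = e := by exact_mod_cast this
    omega
  obtain ⟨t, ht, ht2⟩ := CILib.exists_mem_notMem_sq ρ hρ hne
  have htm : t ∈ maximalIdeal A := le_maximalIdeal (RingHom.ker_ne_top ρ) ht
  obtain ⟨hreg, -, hdim⟩ := RegLocal.quot_singleton A hA htm ht2
  haveI := hreg
  let π : A ⧸ Ideal.span {t} →+* B := Ideal.Quotient.lift _ ρ fun a ha =>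
    RingHom.mem_ker.1 ((Ideal.span_singleton_le_iff_mem _).2 ht ha)
  have hπ : RingHom.ker π = ⊥ :=
    CILib.ker_eq_bot_of_dim π (Ideal.Quotient.lift_surjective_of_surjective _ _ hρ) (e := e)
      (by rw [hdim, show d - 1 = e by omega]) hB
  refine ⟨t, le_antisymm (fun a ha => ?_) ((Ideal.span_singleton_le_iff_mem _).2 ht), ?_, htm, ht2⟩
  · have h1 : Ideal.Quotient.mk (Ideal.span {t}) a ∈ RingHom.ker π := by
      rw [RingHom.mem_ker]
      exact RingHom.mem_ker.1 ha
    rw [hπ, Ideal.mem_bot] at h1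
    exact Ideal.Quotient.eq_zero_iff_mem.1 h1
  · rintro rfl
    exact ht2 (zero_mem _)

variable {X D : Scheme.{u}} [IsLocallyNoetherian X] (i : D ⟶ X) [IsClosedImmersion i]

/-- A regular divisor is an effective Cartier divisor. -/
theorem isEffCartier (hX : ∀ x : X, IsRegularLocalRing (X.presheaf.stalk x))
    (hD : ∀ y : D, IsRegularLocalRing (D.presheaf.stalk y))
    (hc : ∀ y : D, ringKrullDim (X.presheaf.stalk (i.base y)) = ringKrullDim (D.presheaf.stalk y) + 1) :
    BlowUp.IsEffCartierIdeal i.ker := by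
  refine S1570.result X i.ker fun x hx U hxU => ?_
  have hsup : (i.ker.support : Set X) = closure (Set.range i) := Scheme.Hom.support_ker i
  rw [i.isClosedEmbedding.isClosed_range.closure_eq] at hsup
  obtain ⟨y, rfl⟩ := hsup.le hx
  haveI := hX (i y)
  haveI := hD y
  obtain ⟨t, ht, ht0, -, -⟩ := exists_gen_ker (i.stalkMap y).hom (SurjectiveOnStalks.stalkMap_surjective (f := i) y) (hc y).symm
  haveI := RegLocal.isDomain (R := X.presheaf.stalk (i y))
  refine ⟨t, mem_nonZeroDivisors_iff_ne_zero.2 ht0, ?_⟩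
  rw [← IdealStalkLib.stalkIdeal_eq i.ker U (i y) hxU, EtAlgEasy.ConormalStalk.stalkIdeal_ker i y, ht]

/-- The germ of a local equation lies outside the square of the maximal ideal. -/
theorem germ_mem_notMem_sq (hX : ∀ x : X, IsRegularLocalRing (X.presheaf.stalk x))
    (hD : ∀ y : D, IsRegularLocalRing (D.presheaf.stalk y))
    (hc : ∀ y : D, ringKrullDim (X.presheaf.stalk (i.base y)) = ringKrullDim (D.presheaf.stalk y) + 1)
    (W : X.affineOpens) (t : Γ(X, W.1)) (ht : i.ker.ideal W = Ideal.span {t}) (y : D) (hy : i y ∈ W.1) :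
    X.presheaf.germ W.1 (i y) hy t ∈ maximalIdeal (X.presheaf.stalk (i y)) ∧
      X.presheaf.germ W.1 (i y) hy t ∉ maximalIdeal (X.presheaf.stalk (i y)) ^ 2 := by
  haveI := hX (i y)
  haveI := hD y
  have hk : RingHom.ker (i.stalkMap y).hom = Ideal.span {X.presheaf.germ W.1 (i y) hy t} := by
    rw [← EtAlgEasy.ConormalStalk.stalkIdeal_ker i y, IdealStalkLib.stalkIdeal_eq i.ker W (i y) hy, ht,
      Ideal.map_span, Set.image_singleton]
  exact ⟨le_maximalIdeal (RingHom.ker_ne_top _) (hk.ge (Ideal.mem_span_singleton_self _)),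
    CanonFac.notMem_sq _ (SurjectiveOnStalks.stalkMap_surjective (f := i) y) hk (hc y).symm⟩

omit [IsLocallyNoetherian X] in
/-- The complement of a divisor on an affine open where it has an equation. -/
theorem mem_range_iff (W : X.affineOpens) (t : Γ(X, W.1)) (ht : i.ker.ideal W = Ideal.span {t}) {x : X}
    (hx : x ∈ W.1) : x ∈ Set.range i ↔ x ∉ X.basicOpen t := by
  have hsup : (i.ker.support : Set X) = closure (Set.range i) := Scheme.Hom.support_ker i
  rw [i.isClosedEmbedding.isClosed_range.closure_eq] at hsup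
  have h := Set.ext_iff.1 (i.ker.coe_support_inter W) x
  rw [hsup, ht, Scheme.zeroLocus_span, Scheme.zeroLocus_singleton] at h
  simpa [hx] using h

end Groth.Agent.EtPurLib
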