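import Groth.Agent.EtPurLib.Stalk
import Groth.Agent.CdFieldLib.Support
import Groth.Agent.LocCohLib.Seq
import Groth.Agent.EtDepthLib.PullFacts

/-!
# Purity for roots of unity along a regular divisor
-/

set_option autoImplicit false
set_option linter.style.haveILetI false
set_option backward.isDefEq.respectTransparency false
set_option backward.isDefEq.respectTransparency.types false
set_option maxHeartbeats 1000000

universe u

open CategoryTheory CategoryTheory.Limits AlgebraicGeometry Opposite IsLocalRing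
open Groth.Agent.EtPtsLib Groth.Agent.EtTraceLib

noncomputable section

namespace Groth.Agent.EtPurLib

theorem nsmul_id_mu (X : Scheme.{u}) (n : ℕ) : n • 𝟙 (EtCoh.mu X n) = 0 := by
  haveI : Mono (EtCoh.muι X n) := inferInstanceAs (Mono (kernel.ι (EtCoh.powMap X n)))
  refine (cancel_mono (EtCoh.muι X n)).1 ?_
  rw [zero_comp, Preadditive.nsmul_comp, Category.id_comp, ← Category.comp_id (EtCoh.muι X n),
    ← Preadditive.comp_nsmul]
  exact kernel.condition _

/-- The morphism from `ℤ/n` given by a global section killed by `n`. -/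
theorem exists_hom_const {X : Scheme.{u}} (F : EtCoh.Ab X) (n : ℕ) (c : EtCoh.sect F (EtCoh.top X)) (hc : n • c = 0) :
    ∃ φ : EtCoh.const X (ZMod n) ⟶ F, ∀ (Ω : Type u) [Field Ω] [IsSepClosed Ω] (ξ : Spec (CommRingCat.of Ω) ⟶ X)
      (l : (Scheme.pointSmallEtale ξ).fiber.obj (EtCoh.top X)) (k : ℤ),
      (EtCoh.stalk ξ).map φ (germ ξ (EtCoh.const X (ZMod n)) l
        (cst (AddCommGrpCat.of (ULift.{u + 1} (ZMod n))) (EtCoh.top X) ⟨(k : ZMod n)⟩)) = germ ξ F l (k • c) := by
  let M : AddCommGrpCat.{u + 1} := AddCommGrpCat.of (ULift.{u + 1} (ZMod n))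
  let θ : M ⟶ F.obj.obj (op (EtCoh.top X)) := AddCommGrpCat.ofHom
    ((ZMod.lift n ⟨zmultiplesHom _ c, by simpa using hc⟩).comp AddEquiv.ulift.toAddMonoidHom)
  let η : (Functor.const X.Etaleᵒᵖ).obj M ⟶ F.obj :=
    { app := fun V => θ ≫ F.obj.map ((EtCore.topIsTerminal X).from V.unop).op
      naturality := fun V W g => by
        change 𝟙 M ≫ θ ≫ F.obj.map _ = (θ ≫ F.obj.map _) ≫ F.obj.map g
        rw [Category.id_comp, Category.assoc, ← Functor.map_comp, ← g.op_unop, ← op_comp]
        exact congrArg (fun q => θ ≫ F.obj.map (Quiver.Hom.op q)) ((EtCore.topIsTerminal X).hom_ext _ _) }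
  let φ : EtCoh.const X (ZMod n) ⟶ F :=
    ((sheafificationAdjunction X.smallEtaleTopology AddCommGrpCat.{u + 1}).homEquiv _ _).symm η
  have hφ : cst M (EtCoh.top X) ≫ φ.hom.app (op (EtCoh.top X)) = η.app (op (EtCoh.top X)) := by
    have h := ((sheafificationAdjunction X.smallEtaleTopology AddCommGrpCat.{u + 1}).homEquiv _ _).apply_symm_apply η
    rw [Adjunction.homEquiv_unit] at h
    exact NatTrans.congr_app h (op (EtCoh.top X))
  refine ⟨φ, fun Ω _ _ ξ l k => ?_⟩
  refine ((Scheme.pointSmallEtale ξ).toPresheafFiber_naturality_apply φ.hom (EtCoh.top X) l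
    (cst M (EtCoh.top X) ⟨(k : ZMod n)⟩)).trans (congrArg (germ ξ F l) ?_)
  refine (ConcreteCategory.congr_hom hφ _).trans ?_
  change (θ ≫ F.obj.map ((EtCore.topIsTerminal X).from (EtCoh.top X)).op) _ = _
  rw [(EtCore.topIsTerminal X).from_self, op_id, CategoryTheory.Functor.map_id, Category.comp_id]
  exact ZMod.lift_coe n ⟨zmultiplesHom (F.obj.obj (op (EtCoh.top X))) c, by simpa using hc⟩ k

variable {X D U : Scheme.{u}} [IsLocallyNoetherian X] [X.IsSeparated] (i : D ⟶ X) [IsClosedImmersion i]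
  (hX : ∀ x : X, IsRegularLocalRing (X.presheaf.stalk x))
  (hD : ∀ y : D, IsRegularLocalRing (D.presheaf.stalk y))
  (hc : ∀ y : D, ringKrullDim (X.presheaf.stalk (i.base y)) = ringKrullDim (D.presheaf.stalk y) + 1)
  (j : U ⟶ X) [IsOpenImmersion j] [QuasiCompact j] [EtCoh.BCCont j] [EtCoh.BCCont i]
  (hU : Set.range j = (Set.range i)ᶜ) (n : ℕ) (hn : IsUnit (n : Γ(X, ⊤)))

include hX hD hc hU hn in
/-- The first direct image of roots of unity is the direct image of `ℤ/n` on the divisor. -/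
theorem nonempty_Rpush_iso (hsupp : EtPBC.supp ((EtCoh.Rpush j 1).obj (EtCoh.mu U n)) ⊆ Set.range i) :
    Nonempty ((EtCoh.Rpush j 1).obj (EtCoh.mu U n) ≅ (EtCoh.push i).obj (EtCoh.const D (ZMod n))) := by
  let R1 := (EtCoh.Rpush j 1).obj (EtCoh.mu U n)
  obtain ⟨d, w, hex, hd⟩ := exists_boundary j n hn
  obtain ⟨c, hc'⟩ := exists_class j i hU hX hD hc d hd
  haveI : PreservesFiniteLimits (EtCoh.push j) := by
    haveI := (EtCoh.pullPushAdj j).rightAdjoint_preservesLimits
    infer_instance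
  haveI : (EtCoh.push j).Additive := Functor.additive_of_preserves_binary_products _
  have hn1 : n • 𝟙 R1 = 0 := by
    rw [← CategoryTheory.Functor.map_id, ← Functor.map_nsmul, nsmul_id_mu, Functor.map_zero]
  have hnc : n • c = 0 := by
    have h := congrArg (fun q => ((sheafToPresheaf _ _).map q).app (op (EtCoh.top X))) hn1
    simp only [Functor.map_nsmul, Functor.map_zero, NatTrans.app_nsmul] at h
    exact ConcreteCategory.congr_hom h c
  obtain ⟨φ, hφ⟩ := exists_hom_const R1 n c hnc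
  haveI : IsIso ((EtCoh.pull i).map φ) := by
    refine isIso_of_points _ fun y => ?_
    let x := i y
    obtain ⟨R, _, _, _, _, hR⟩ := Henselization.exists_strictHenselization (R := X.presheaf.stalk x)
    haveI := hR
    haveI : IsSepClosed (ResidueField R) :=
      (Hensel.IsStrictHenselization.isSepClosure (R := X.presheaf.stalk x) (S := R)).sep_closed
    let ξ := Hens2.geomPt X x R
    obtain ⟨ζ, hζ⟩ := exists_comp_eq_closed i ξ (by rw [SmoothBCLib.geomPt_default x R]; exact Set.mem_range_self y)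
    refine ⟨ResidueField R, inferInstance, inferInstance, ζ, i.isClosedEmbedding.injective ?_, ?_⟩
    · rw [← Scheme.Hom.comp_apply, hζ]
      exact SmoothBCLib.geomPt_default x R
    rw [SmoothBCLib.bijective_stalk_pull_iff, hζ]
    haveI : NeZero n := ⟨fun h => by
      subst h
      have := hn.map (X.presheaf.germ ⊤ x trivial).hom
      rw [map_natCast, Nat.cast_zero] at this
      exact not_isUnit_zero this⟩
    obtain ⟨e⟩ := nonempty_stalk_equiv i hX hD hc j hU n hn x R (Set.mem_range_self y)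
    obtain ⟨V, v, f, W, t, ht, h, hv, hfc⟩ := hc' x
    obtain ⟨l, -⟩ := Scheme.pointSmallEtaleFiberObjToPreimage_surjective ξ rfl V
      ⟨v, hv.trans (SmoothBCLib.geomPt_default x R).symm⟩
    let L := (Scheme.pointSmallEtale ξ).fiber.map f l
    let M : AddCommGrpCat.{u + 1} := AddCommGrpCat.of (ULift.{u + 1} (ZMod n))
    let g : M →+ (EtCoh.stalk ξ).obj R1 :=
      ((EtCoh.stalk ξ).map φ).hom.comp (AddMonoidHom.mk'
        (fun m : M => germ ξ (EtCoh.const X (ZMod n)) L (cst M (EtCoh.top X) m)) fun a b =>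
          (congrArg (germ ξ (EtCoh.const X (ZMod n)) L) (map_add (cst M (EtCoh.top X)).hom a b)).trans (map_add _ _ _))
    have hinj : Function.Injective g := (injective_iff_map_eq_zero g).2 fun m hm => by
      obtain ⟨m⟩ := m
      obtain ⟨k, rfl⟩ : ∃ k : ℕ, (k : ZMod n) = m := ⟨m.val, ZMod.natCast_zmod_val m⟩
      have h1 : germ ξ R1 L ((k : ℤ) • c) = 0 := by
        rw [← hφ (ResidueField R) ξ L k, Int.cast_natCast]
        exact hm
      rw [natCast_zsmul, ← germ_map ξ R1 f l (k • c)] at h1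
      erw [map_nsmul (R1.obj.map f.op).hom] at h1
      erw [hfc] at h1
      exact ULift.ext _ _ ((ZMod.natCast_eq_zero_iff _ _).2
        (dvd_of_cls_eq_zero i hX hD hc j hU n hn x R d w hex W t ht V l h (Set.mem_range_self y) k h1))
    have hbij : Function.Bijective g := by
      haveI : Finite ((EtCoh.stalk ξ).obj R1) := Finite.of_equiv _ e.symm.toEquiv
      exact hinj.bijective_of_nat_card_le (by
        rw [Nat.card_congr e.toEquiv, Nat.card_congr (Equiv.ulift : ULift.{u + 1} (ZMod n) ≃ ZMod n)])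
    exact (Function.Bijective.of_comp_iff _ (germ_cst_bijective ξ M L)).1 hbij
  haveI := CdFieldLib.isIso_unit_of_supp_closed i R1 hsupp
  exact ⟨asIso ((EtCoh.pullPushAdj i).unit.app R1) ≪≫ (EtCoh.push i).mapIso
    ((asIso ((EtCoh.pull i).map φ)).symm ≪≫ EtCore.pullConst i (ZMod n))⟩

include hX hD hc hU hn in
/-- Purity for a regular divisor. -/
theorem locCoh_mu_regular_divisor :
    IsZero ((EtDual.locCoh j 0).obj (EtCoh.mu X n)) ∧ IsZero ((EtDual.locCoh j 1).obj (EtCoh.mu X n)) ∧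
      Nonempty ((EtDual.locCoh j 2).obj (EtCoh.mu X n) ≅ (EtCoh.push i).obj (EtCoh.const D (ZMod n))) := by
  refine ⟨isZero_locCoh_mu i hX hD hc j hU n hn 0 (by omega), isZero_locCoh_mu i hX hD hc j hU n hn 1 (by omega), ?_⟩
  let R := InjectiveResolution.of (EtCoh.mu X n)
  obtain ⟨e₀⟩ := LocCohLib.nonempty_iso_succ j (EtCoh.mu X n) R 0
  let eU : (EtCoh.pull j).obj (EtCoh.mu X n) ≅ EtCoh.mu U n :=
    (pullIsoRestr j).app _ ≪≫ TateShLib.restrMu j n
  let e : (EtDual.locCoh j 2).obj (EtCoh.mu X n) ≅ (EtCoh.Rpush j 1).obj (EtCoh.mu U n) :=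
    (e₀ ≪≫ (R.isoRightDerivedObj (EtDual.secSupp j) 2).symm).symm ≪≫ (EtCoh.Rpush j 1).mapIso eU
  have hsupp : EtPBC.supp ((EtCoh.Rpush j 1).obj (EtCoh.mu U n)) ⊆ Set.range i := by
    rintro x ⟨Ω, _, _, ξ, hξ, hz⟩
    by_contra hx
    exact EtDepthLib.supp_locCoh_subset j (EtCoh.mu X n) 2
      ⟨Ω, inferInstance, inferInstance, ξ, hξ, fun h => hz (h.of_iso ((EtCoh.stalk ξ).mapIso e).symm)⟩
      (hU.ge hx)
  obtain ⟨e'⟩ := nonempty_Rpush_iso i hX hD hc j hU n hn hsupp
  exact ⟨e ≪≫ e'⟩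

end Groth.Agent.EtPurLib
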