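import Groth.Agent.EtPurLib.Basic
import Groth.Agent.SuppCoh.Etale
import Groth.Agent.TateShLib.Local
import Groth.Agent.EtDepthLib.Dict
import Groth.Agent.SmoothPushLib.Spec

/-!
# Roots of unity near a regular divisor
-/

set_option autoImplicit false
set_option linter.style.haveILetI false
set_option backward.isDefEq.respectTransparency false
set_option backward.isDefEq.respectTransparency.types false
set_option maxHeartbeats 1000000

universe u

open CategoryTheory CategoryTheory.Limits AlgebraicGeometry Opposite IsLocalRing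
open Groth.Agent.EtPtsLib Groth.Agent.EtTraceLib

noncomputable section

namespace Groth.Agent.EtPurLib

variable {X : Scheme.{u}}

/-- Roots of unity become constant on an étale cover. -/
theorem exists_cover_mu (n : ℕ) (hn : IsUnit (n : Γ(X, ⊤))) :
    ∃ (X' : Scheme.{u}) (g : X' ⟶ X) (_ : AlgebraicGeometry.Etale g) (_ : Surjective g),
      Nonempty ((EtCoh.pull g).obj (EtCoh.mu X n) ≅ EtCoh.const X' (ZMod n)) := by
  rcases Nat.eq_zero_or_pos n with rfl | hn1
  · haveI : IsEmpty X := ⟨fun x => by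
      have h : IsUnit (0 : X.presheaf.stalk x) := by
        simpa using hn.map (X.presheaf.germ ⊤ x trivial).hom
      exact zero_ne_one (isUnit_zero_iff.mp h)⟩
    exact ⟨X, 𝟙 X, inferInstance, inferInstance,
      ⟨(TateShLib.isZero_of_isEmpty _).iso (TateShLib.isZero_of_isEmpty _)⟩⟩
  · obtain ⟨X', g, hg, hs, ζ, hu', hζ⟩ := TateShLib.exists_cyclotomic_cover X n hn1 hn
    haveI := hg
    obtain ⟨e⟩ := S13507.nonempty_mu_iso_const X' n hn1 hu' ζ hζ
    exact ⟨X', g, hg, hs, ⟨(pullIsoRestr g).app _ ≪≫ TateShLib.restrMu g n ≪≫ e⟩⟩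

/-- Roots of unity are constant on strict localizations. -/
theorem nonempty_pull_mu_specOf (n : ℕ) (hn : IsUnit (n : Γ(X, ⊤))) (x : X) (R : Type u) [CommRing R] [IsLocalRing R]
    [Algebra (X.presheaf.stalk x) R] [IsLocalHom (algebraMap (X.presheaf.stalk x) R)]
    [Hensel.IsStrictHenselization (X.presheaf.stalk x) R] :
    Nonempty ((EtCoh.pull (Hens2.specOf X x R)).obj (EtCoh.mu X n) ≅
      EtCoh.const (Spec (CommRingCat.of R)) (ZMod n)) := by
  haveI := Hensel.IsStrictHenselization.henselian (R := X.presheaf.stalk x) (S := R)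
  haveI : IsSepClosed (ResidueField R) :=
    (Hensel.IsStrictHenselization.isSepClosure (R := X.presheaf.stalk x) (S := R)).sep_closed
  obtain ⟨X', g, hg, hs, ⟨e⟩⟩ := exists_cover_mu n hn
  haveI := hg
  obtain ⟨v, hv⟩ := hs.surj x
  obtain ⟨m, hm, -, -⟩ := SmoothPushLib.exists_strictLoc_lift x R (Scheme.Etale.mk g) v hv
  exact ⟨((EtCore.pullCongr hm).app (EtCoh.mu X n)).symm ≪≫ (EtCore.pullComp m g).app (EtCoh.mu X n) ≪≫
    (EtCoh.pull m).mapIso e ≪≫ EtCore.pullConst m (ZMod n)⟩

variable {D U : Scheme.{u}} [IsLocallyNoetherian X] (i : D ⟶ X) [IsClosedImmersion i]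
  (hX : ∀ x : X, IsRegularLocalRing (X.presheaf.stalk x))
  (hD : ∀ y : D, IsRegularLocalRing (D.presheaf.stalk y))
  (hc : ∀ y : D, ringKrullDim (X.presheaf.stalk (i.base y)) = ringKrullDim (D.presheaf.stalk y) + 1)
  (j : U ⟶ X) [IsOpenImmersion j] [EtCoh.BCCont j] [QuasiCompact j] (hU : Set.range j = (Set.range i)ᶜ)

include hX hD hc hU in
/-- Local cohomology of roots of unity along a regular divisor vanishes below degree two. -/
theorem isZero_locCoh_mu (n : ℕ) (hn : IsUnit (n : Γ(X, ⊤))) (p : ℕ) (hp : p < 2) :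
    IsZero ((EtDual.locCoh j p).obj (EtCoh.mu X n)) := by
  haveI := isIso_unit_cst i hX hD hc j hU (AddCommGrpCat.of (ULift.{u + 1} (ZMod n)))
  have h : IsZero ((EtDual.locCoh j p).obj (EtCoh.const X (ZMod n))) := by
    obtain rfl | rfl : p = 0 ∨ p = 1 := by omega
    · exact (EtDepthLib.isZero_locCoh_zero_iff j _).2 (inferInstanceAs
        (Mono ((EtCoh.pullPushAdj j).unit.app (cSh X (AddCommGrpCat.of (ULift.{u + 1} (ZMod n)))))))
    · exact (EtDepthLib.isZero_locCoh_one_iff j _).2 (inferInstanceAs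
        (Epi ((EtCoh.pullPushAdj j).unit.app (cSh X (AddCommGrpCat.of (ULift.{u + 1} (ZMod n)))))))
  obtain ⟨X', g, hg, hs, ⟨e⟩⟩ := exists_cover_mu n hn
  haveI := hg
  haveI := hs
  have hp := IsPullback.of_hasPullback j g
  obtain ⟨a⟩ := SuppCoh.nonempty_locCoh_pull j g _ _ hp p (EtCoh.mu X n)
  obtain ⟨b⟩ := SuppCoh.nonempty_locCoh_pull j g _ _ hp p (EtCoh.const X (ZMod n))
  exact SuppCoh.isZero_of_isZero_pull g _ (((EtCoh.pull g).map_isZero h).of_iso
    (a ≪≫ (EtDual.locCoh (pullback.snd j g) p).mapIso (e ≪≫ (EtCore.pullConst g (ZMod n)).symm) ≪≫ b.symm))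

omit [IsLocallyNoetherian X] [QuasiCompact j] in
/-- Inverse image of roots of unity on the punctured strict localization. -/
theorem nonempty_pull_fst_mu (n : ℕ) (hn : IsUnit (n : Γ(X, ⊤))) (x : X) (R : Type u) [CommRing R] [IsLocalRing R]
    [Algebra (X.presheaf.stalk x) R] [IsLocalHom (algebraMap (X.presheaf.stalk x) R)]
    [Hensel.IsStrictHenselization (X.presheaf.stalk x) R] :
    Nonempty ((EtCoh.pull (pullback.fst j (Hens2.specOf X x R))).obj ((EtCoh.pull j).obj (EtCoh.mu X n)) ≅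
      EtCoh.const (pullback j (Hens2.specOf X x R)) (ZMod n)) := by
  obtain ⟨e⟩ := nonempty_pull_mu_specOf n hn x R
  exact ⟨((EtCore.pullComp _ j).app _).symm ≪≫ (EtCore.pullCongr pullback.condition).app _ ≪≫
    (EtCore.pullComp _ (Hens2.specOf X x R)).app _ ≪≫
    (EtCoh.pull (pullback.snd j (Hens2.specOf X x R))).mapIso e ≪≫ EtCore.pullConst _ (ZMod n)⟩

end Groth.Agent.EtPurLib
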