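import Groth.Agent.EtPurLib.Class
import Groth.Agent.EtPunct.Basic
import Groth.Agent.S0620
import Groth.Agent.AcycCompLib.Basic
import Groth.Agent.EtPtsLib.InitialNbhd

/-!
# The stalks of the first direct image of roots of unity at a regular divisor
-/

set_option autoImplicit false
set_option linter.style.haveILetI false
set_option backward.isDefEq.respectTransparency false
set_option backward.isDefEq.respectTransparency.types false
set_option maxHeartbeats 1000000

universe u

open CategoryTheory CategoryTheory.Limits AlgebraicGeometry Opposite IsLocalRing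
open Groth.Agent.EtPtsLib Groth.Agent.EtTraceLib

noncomputable section

namespace Groth.Agent.EtPurLib

/-- Roots of unity are constant where they are étale-locally trivialised. -/
theorem nonempty_mu_const {X : Scheme.{u}} (n : ℕ) (hn : IsUnit (n : Γ(X, ⊤))) (x : X) (R : Type u) [CommRing R]
    [IsLocalRing R] [Algebra (X.presheaf.stalk x) R] [IsLocalHom (algebraMap (X.presheaf.stalk x) R)]
    [Hensel.IsStrictHenselization (X.presheaf.stalk x) R] {P : Scheme.{u}} (p : P ⟶ Spec (CommRingCat.of R)) :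
    Nonempty (EtCoh.mu P n ≅ EtCoh.const P (ZMod n)) := by
  have hn0 : 1 ≤ n := Nat.pos_of_ne_zero fun h => by
    subst h
    have := hn.map (X.presheaf.germ ⊤ x trivial).hom
    rw [map_natCast, Nat.cast_zero] at this
    exact not_isUnit_zero this
  haveI := Hensel.IsStrictHenselization.henselian (R := X.presheaf.stalk x) (S := R)
  haveI : IsSepClosed (ResidueField R) :=
    (Hensel.IsStrictHenselization.isSepClosure (R := X.presheaf.stalk x) (S := R)).sep_closed
  obtain ⟨X', g, hg, hs, ζ, hu, hζ⟩ := TateShLib.exists_cyclotomic_cover X n hn0 hn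
  haveI := hg
  obtain ⟨v, hv⟩ := hs.surj x
  obtain ⟨m, -, -, -⟩ := SmoothPushLib.exists_strictLoc_lift x R (Scheme.Etale.mk g) v hv
  let φ : Γ(X', ⊤) →+* Γ(P, ⊤) := (p ≫ m : P ⟶ X').appTop.hom
  refine S13507.nonempty_mu_iso_const P n hn0 (by simpa using hu.map φ) (φ ζ) ?_
  rw [Polynomial.aeval_def] at hζ
  rw [Polynomial.aeval_def, RingHom.ext_int (algebraMap ℤ Γ(P, ⊤)) (φ.comp (algebraMap ℤ Γ(X', ⊤))),
    ← Polynomial.hom_eval₂, hζ, map_zero]

variable {X D U : Scheme.{u}} [IsLocallyNoetherian X] (i : D ⟶ X) [IsClosedImmersion i]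
  (hX : ∀ x : X, IsRegularLocalRing (X.presheaf.stalk x))
  (hD : ∀ y : D, IsRegularLocalRing (D.presheaf.stalk y))
  (hc : ∀ y : D, ringKrullDim (X.presheaf.stalk (i.base y)) = ringKrullDim (D.presheaf.stalk y) + 1)
  (j : U ⟶ X) [IsOpenImmersion j] [EtCoh.BCCont j] (hU : Set.range j = (Set.range i)ᶜ)
  (n : ℕ) (hn : IsUnit (n : Γ(X, ⊤)))
  (x : X) (R : Type u) [CommRing R] [IsLocalRing R] [Algebra (X.presheaf.stalk x) R]
  [IsLocalHom (algebraMap (X.presheaf.stalk x) R)] [Hensel.IsStrictHenselization (X.presheaf.stalk x) R]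

omit [IsLocallyNoetherian X] in
/-- A function on a neighbourhood read on a strict localization. -/
theorem specOf_appLE (W : X.Opens) (hx : x ∈ W) (t : Γ(X, W))
    (h : (⊤ : (Spec (CommRingCat.of R)).Opens) ≤ Hens2.specOf X x R ⁻¹ᵁ W) :
    (Hens2.specOf X x R).appLE W ⊤ h t =
      (Scheme.ΓSpecIso (CommRingCat.of R)).inv (algebraMap (X.presheaf.stalk x) R (X.presheaf.germ W x hx t)) := by
  let a := CommRingCat.ofHom (algebraMap (X.presheaf.stalk x) R)
  have hW : (⊤ : (Spec (X.presheaf.stalk x)).Opens) ≤ X.fromSpecStalk x ⁻¹ᵁ W := fun q _ =>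
    (show X.fromSpecStalk x q ⤳ x from (Scheme.range_fromSpecStalk (x := x)).le (Set.mem_range_self q)).mem_open W.2 hx
  have h1 : (X.fromSpecStalk x).appLE W ⊤ hW t = (Scheme.ΓSpecIso (X.presheaf.stalk x)).inv (X.presheaf.germ W x hx t) := by
    rw [Scheme.Hom.appLE, Scheme.fromSpecStalk_app hx, Category.assoc, Category.assoc, ← Functor.map_comp]
    erw [CategoryTheory.Functor.map_id, Category.comp_id]
    rfl
  refine (appTop_appLE (Spec.map a) (X.fromSpecStalk x) (Hens2.specOf X x R) rfl W hW h t).symm.trans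
    ((congrArg (Spec.map a).appTop h1).trans ?_)
  exact (ConcreteCategory.congr_hom (Scheme.ΓSpecIso_inv_naturality a) (X.presheaf.germ W x hx t)).symm

include hX hD hc hU hn in
/-- The stalk of the first direct image. -/
theorem nonempty_stalk_equiv [QuasiCompact j] [IsSepClosed (ResidueField R)] (hxD : x ∈ Set.range i) :
    Nonempty ((EtCoh.stalk (Hens2.geomPt X x R)).obj ((EtCoh.Rpush j 1).obj (EtCoh.mu U n)) ≃+ ZMod n) := by
  haveI := Hensel.IsStrictHenselization.henselian (R := X.presheaf.stalk x) (S := R)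
  obtain ⟨hR, t, htm, ht2, hrange⟩ := exists_param i hX hD hc j hU x hxD R
  haveI := hR
  let ε := Hens2.specOf X x R
  obtain ⟨e1⟩ := S0620.result j (EtCoh.mu U n) x R 1
  obtain ⟨e2⟩ := nonempty_pull_fst_mu j n hn x R
  let eU : (EtCoh.pull j).obj (EtCoh.mu X n) ≅ EtCoh.mu U n :=
    (pullIsoRestr j).app _ ≪≫ TateShLib.restrMu j n
  let loc : Spec (CommRingCat.of (Localization.Away t)) ⟶ Spec (CommRingCat.of R) :=
    Spec.map (CommRingCat.ofHom (algebraMap R (Localization.Away t)))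
  haveI : IsOpenImmersion loc := IsOpenImmersion.of_isLocalization (S := Localization.Away t) t
  let e := IsOpenImmersion.isoOfRangeEq loc (pullback.snd j ε) (by
    rw [hrange]; exact PrimeSpectrum.localization_away_comap_range (Localization.Away t) t)
  haveI : PreservesFiniteLimits (EtCoh.pull e.hom) := S0101.result e.hom
  obtain ⟨e3⟩ := nonempty_mu_const n hn x R loc
  let C := EtCoh.const (pullback j ε) (ZMod n)
  have hb := AcycCompLib.bijective_Hpull_of_isIso e.hom C 1
  have hnR : IsUnit (n : R) := by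
    have := (hn.map (X.presheaf.germ ⊤ x trivial).hom).map (algebraMap (X.presheaf.stalk x) R)
    simpa using this
  obtain ⟨e4⟩ := EtPunct.nonempty_H1_mu_away R ⟨inferInstance, inferInstance⟩ t htm ht2 n hnR
  let a1 := e1.addCommGroupIsoToAddEquiv
  let a2 := ((EtCoh.HF (pullback j ε) 1).mapIso
    (((EtCoh.pull (pullback.fst j ε)).mapIso eU.symm) ≪≫ e2)).addCommGroupIsoToAddEquiv
  let a3 : EtCoh.H (pullback j ε) C 1 ≃+ EtCoh.H _ ((EtCoh.pull e.hom).obj C) 1 := AddEquiv.ofBijective _ hb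
  let a4 := ((EtCoh.HF _ 1).mapIso (EtCore.pullConst e.hom (ZMod n) ≪≫ e3.symm)).addCommGroupIsoToAddEquiv
  exact ⟨((a1.trans a2).trans a3).trans (a4.trans e4)⟩

include hX hD hc hn in
/-- Multiples of the class of a local equation vanish only for multiples of `n`. -/
theorem dvd_of_cls_eq_zero {F : EtCoh.Ab X} (d : (EtCoh.push j).obj (EtCoh.Gm U) ⟶ F)
    (w : (EtCoh.push j).map (EtCoh.powMap U n) ≫ d = 0) (hex : (ShortComplex.mk _ d w).Exact)
    [IsSepClosed (ResidueField R)] (W : X.affineOpens) (t : Γ(X, W.1)) (ht : i.ker.ideal W = Ideal.span {t})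
    (V : X.Etale) (l : (Scheme.pointSmallEtale (Hens2.geomPt X x R)).fiber.obj V) (h : ⊤ ≤ V.hom ⁻¹ᵁ W.1)
    (hxD : x ∈ Set.range i) (k : ℕ)
    (h0 : germ (Hens2.geomPt X x R) F l (k • cls j d V (V.hom.appLE W.1 ⊤ h t) (isUnit_equation j i hU V W t ht h)) = 0) :
    n ∣ k := by
  haveI := Hensel.IsStrictHenselization.henselian (R := X.presheaf.stalk x) (S := R)
  let ξ := Hens2.geomPt X x R
  let Φ := Scheme.pointSmallEtale ξ
  let G := (EtCoh.push j).obj (EtCoh.Gm U)
  let s := V.hom.appLE W.1 ⊤ h t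
  have hs := isUnit_equation j i hU V W t ht h
  have hsk : IsUnit ((pullback.fst V.hom j).appTop (s ^ k)) := by rw [map_pow]; exact hs.pow k
  rw [← cls_pow j d V s hs k hsk] at h0
  let S : ShortComplex (EtCoh.Ab X) := ShortComplex.mk _ d w
  obtain ⟨z, hz⟩ := (ShortComplex.ab_exact_iff _).1 (hex.map (EtCoh.stalk ξ)) (germ ξ G l (unitSec j V (s ^ k) hsk))
    ((Φ.toPresheafFiber_naturality_apply d.hom V l _).trans h0)
  obtain ⟨V₂, l₂, q, rfl⟩ := Φ.toPresheafFiber_jointly_surjective z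
  obtain ⟨Q, g₁, g₂, -⟩ := IsCofilteredOrEmpty.cone_objs (C := Φ.fiber.Elements) ⟨V, l⟩ ⟨V₂, l₂⟩
  have hz' : germ ξ G l₂ (((EtCoh.push j).map (EtCoh.powMap U n)).hom.app (op V₂) q) =
      germ ξ G l (unitSec j V (s ^ k) hsk) :=
    (Φ.toPresheafFiber_naturality_apply ((EtCoh.push j).map (EtCoh.powMap U n)).hom V₂ l₂ q).symm.trans hz
  have e₁ := germ_map ξ G g₁.1 Q.2 (unitSec j V (s ^ k) hsk)
  have e₂ := germ_map ξ G g₂.1 Q.2 (((EtCoh.push j).map (EtCoh.powMap U n)).hom.app (op V₂) q)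
  erw [g₁.2] at e₁
  erw [g₂.2] at e₂
  obtain ⟨V₃, f, y, -, hf⟩ := (Φ.toPresheafFiber_eq_iff' _ _ _ _).1 (e₁.trans (hz'.symm.trans e₂.symm))
  let f₁ : V₃ ⟶ V := f ≫ g₁.1
  let f₂ : V₃ ⟶ V₂ := f ≫ g₂.1
  let u : Γ(pullback V₃.hom j, ⊤)ˣ := Additive.toMul (G.obj.map f₂.op q).down
  have hmain : ((EtCoh.bc j).map f₁).left.appTop ((pullback.fst V.hom j).appTop (s ^ k)) =
      (u : Γ(pullback V₃.hom j, ⊤)) ^ n := by
    have h1 : G.obj.map f₁.op (unitSec j V (s ^ k) hsk) =
        ((EtCoh.push j).map (EtCoh.powMap U n)).hom.app (op V₃) (G.obj.map f₂.op q) := by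
      rw [NatTrans.naturality_apply]
      simp only [f₁, f₂, op_comp, Functor.map_comp, CommRingCat.comp_apply, ConcreteCategory.comp_apply]
      exact hf
    have h2 : ((EtCoh.push j).map (EtCoh.powMap U n)).hom.app (op V₃) (G.obj.map f₂.op q) = n • (G.obj.map f₂.op q) := by
      show (EtCoh.powMap U n).hom.app (op ((EtCoh.bc j).obj V₃)) _ = _
      rw [EtCoh.powMap]
      rfl
    have h3 := congrArg (fun z : EtCoh.sect G V₃ => ((Additive.toMul z.down : Γ(pullback V₃.hom j, ⊤)ˣ) : Γ(pullback V₃.hom j, ⊤)))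
      (h1.trans h2)
    exact h3.trans (Units.val_pow_eq_pow_val u n)
  rw [bcFst_appTop, map_pow, map_pow] at hmain
  let v := liftHom ξ y default
  have hv : V₃.hom v = x := (congrArg (fun q => q default) (liftHom_comp ξ y)).trans (SmoothBCLib.geomPt_default x R)
  obtain ⟨m, hm, -, -⟩ := SmoothPushLib.exists_strictLoc_lift x R V₃ v hv
  obtain ⟨y', hy'⟩ := hxD
  subst hy'
  have hxW : i y' ∈ W.1 := by
    rw [← hv, ← MorphismProperty.Over.w f₁]
    exact h (x := f₁.left v) trivial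
  haveI := hX (i y')
  haveI := isRegular_strictHenselization (X.presheaf.stalk (i y')) R
  haveI := RegLocal.isDomain (R := R)
  haveI := RegLocal.ufd R
  obtain ⟨g1, g2⟩ := germ_mem_notMem_sq i hX hD hc W t ht y' hxW
  let tR := algebraMap (X.presheaf.stalk (i y')) R (X.presheaf.germ W.1 (i y') hxW t)
  have hp : Prime tR := EtPunct.prime_of_notMem_sq (map_nonunit (algebraMap (X.presheaf.stalk (i y')) R) _ g1)
    (algebraMap_notMem_sq _ R g2)
  let A := Localization.Away tR
  let loc : Spec (CommRingCat.of A) ⟶ Spec (CommRingCat.of R) := Spec.map (CommRingCat.ofHom (algebraMap R A))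
  let ε := Hens2.specOf X (i y') R
  have hrange := range_snd_specOf i j hU W t ht (i y') hxW R
  have hin : Set.range (loc ≫ ε) ⊆ Set.range j := by
    rintro _ ⟨p, rfl⟩
    obtain ⟨p', hp'⟩ := hrange.ge ((PrimeSpectrum.localization_away_comap_range A tR).le ⟨p, rfl⟩)
    exact ⟨pullback.fst j ε p', (congrArg (fun q : pullback j ε ⟶ X => q p') pullback.condition).trans
      ((Scheme.Hom.comp_apply _ _ _).trans ((congrArg ε hp').trans (by rfl)))⟩
  let qU : Spec (CommRingCat.of A) ⟶ U := IsOpenImmersion.lift j (loc ≫ ε) hin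
  let qP : Spec (CommRingCat.of A) ⟶ pullback V₃.hom j := pullback.lift (loc ≫ m) qU (by
    rw [IsOpenImmersion.lift_fac, Category.assoc, hm])
  have h4 := congrArg qP.appTop hmain
  rw [map_pow, map_pow] at h4
  have h5 : qP.appTop ((pullback.fst V₃.hom j).appTop (f₁.left.appTop s)) =
      (Scheme.ΓSpecIso (CommRingCat.of A)).inv (algebraMap R A tR) := by
    have hV₃ : (⊤ : V₃.left.Opens) ≤ V₃.hom ⁻¹ᵁ W.1 := fun p _ => by
      show V₃.hom p ∈ W.1
      rw [← MorphismProperty.Over.w f₁]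
      exact h (x := f₁.left p) trivial
    have hεW : (⊤ : (Spec (CommRingCat.of R)).Opens) ≤ ε ⁻¹ᵁ W.1 := fun p _ => by
      show ε p ∈ W.1
      rw [show ε = m ≫ V₃.hom from hm.symm]
      exact hV₃ (x := m p) trivial
    rw [show f₁.left.appTop s = V₃.hom.appLE W.1 ⊤ hV₃ t from
      appTop_appLE f₁.left V.hom V₃.hom (MorphismProperty.Over.w f₁) W.1 h hV₃ t,
      ← CommRingCat.comp_apply, ← Scheme.Hom.comp_appTop, pullback.lift_fst, Scheme.Hom.comp_appTop,
      CommRingCat.comp_apply]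
    refine (congrArg loc.appTop ((appTop_appLE m V₃.hom ε hm W.1 hV₃ hεW t).trans
      (specOf_appLE (i y') R W.1 hxW t hεW))).trans ?_
    rw [← CommRingCat.comp_apply, ← Scheme.ΓSpecIso_inv_naturality]
    rfl
  rw [h5, ← map_pow] at h4
  have h6 := congrArg (Scheme.ΓSpecIso (CommRingCat.of A)).hom h4
  rw [Iso.inv_hom_id_apply, map_pow] at h6
  let uA : Aˣ := Units.map ((qP.appTop ≫ (Scheme.ΓSpecIso (CommRingCat.of A)).hom).hom.toMonoidHom) u
  have hn0 : 0 < n := Nat.pos_of_ne_zero fun hh => by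
    subst hh
    have := hn.map (X.presheaf.germ ⊤ (i y') trivial).hom
    rw [map_natCast, Nat.cast_zero] at this
    exact not_isUnit_zero this
  have h7 := EtPunct.dvd_of_zpow_eq_pow hp hn0 (k := (k : ℤ)) (u := uA) (by
    rw [zpow_natCast]
    refine Units.ext ?_
    rw [Units.val_pow_eq_pow_val, Units.val_pow_eq_pow_val]
    exact h6)
  exact Int.natCast_dvd_natCast.1 h7

end Groth.Agent.EtPurLib
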