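import Groth.Agent.SuppCoh.Torsion
import Groth.Agent.SuppCoh.Groups

/-!
Vanishing of local cohomology of constant finite sheaves from the prime constituents.
-/

set_option autoImplicit false
set_option linter.style.haveILetI false
set_option backward.isDefEq.respectTransparency false
set_option backward.isDefEq.respectTransparency.types false
set_option maxHeartbeats 1000000

universe u

open CategoryTheory CategoryTheory.Limits AlgebraicGeometry Opposite

noncomputable section

namespace Groth.Agent.EtPurLib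

variable {X U : Scheme.{u}} (j : U ⟶ X) [IsOpenImmersion j]

theorem isZero_locCoh_constantSheaf_of_primes (p : ℕ) :
    ∀ (n : ℕ) (M : AddCommGrpCat.{u + 1}) [Finite M], Nat.card M = n →
      (∀ ℓ : ℕ, ℓ.Prime → ℓ ∣ n → IsZero ((EtDual.locCoh j p).obj (EtCoh.const X (ZMod ℓ)))) →
      IsZero ((EtDual.locCoh j p).obj ((constantSheaf X.smallEtaleTopology AddCommGrpCat.{u + 1}).obj M)) := by
  haveI : (constantSheaf X.smallEtaleTopology AddCommGrpCat.{u + 1}).Additive :=
    (EtCore.constAdj X).left_adjoint_additive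
  haveI : PreservesFiniteLimits (constantSheaf X.smallEtaleTopology AddCommGrpCat.{u + 1}) := by
    unfold constantSheaf; infer_instance
  haveI : PreservesFiniteColimits (constantSheaf X.smallEtaleTopology AddCommGrpCat.{u + 1}) := by
    unfold constantSheaf; infer_instance
  intro n
  induction n using Nat.strong_induction_on with
  | _ n ih =>
    intro M _ hn h
    rcases subsingleton_or_nontrivial M with hs | hs
    · exact SuppCoh.isZero_locCoh_of_isZero j p (Functor.map_isZero _ (AddCommGrpCat.isZero_iff_subsingleton.2 hs))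
    obtain ⟨ℓ, hℓ, hdvd⟩ := Nat.exists_prime_and_dvd (n := n) (hn ▸ Finite.one_lt_card.ne')
    haveI : Fact ℓ.Prime := ⟨hℓ⟩
    obtain ⟨x, hx⟩ := exists_prime_addOrderOf_dvd_card' (G := M) ℓ (hn ▸ hdvd)
    let a : ZMod ℓ →+ M := ZMod.lift ℓ ⟨zmultiplesHom M x, by
      have := addOrderOf_nsmul_eq_zero x
      rw [hx] at this
      simpa using this⟩
    have ha : Function.Injective a := by
      refine (ZMod.lift_injective _).2 fun m hm => ?_
      rw [zmultiplesHom_apply] at hm
      exact (ZMod.intCast_zmod_eq_zero_iff_dvd _ _).2 (hx ▸ addOrderOf_dvd_iff_zsmul_eq_zero.2 hm)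
    let i : AddCommGrpCat.of (ULift.{u + 1} (ZMod ℓ)) ⟶ M :=
      AddCommGrpCat.ofHom (a.comp AddEquiv.ulift.toAddMonoidHom)
    haveI : Mono i := (AddCommGrpCat.mono_iff_injective i).2 (ha.comp AddEquiv.ulift.injective)
    let Q := AddCommGrpCat.of (↥M ⧸ a.range)
    let π : M ⟶ Q := AddCommGrpCat.ofHom (QuotientAddGroup.mk' a.range)
    haveI : Epi π := (AddCommGrpCat.epi_iff_surjective π).2 (QuotientAddGroup.mk'_surjective _)
    let S := ShortComplex.mk i π (AddCommGrpCat.hom_ext (AddMonoidHom.ext fun z =>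
      (QuotientAddGroup.eq_zero_iff _).2 ⟨z.down, rfl⟩))
    have hS : S.ShortExact := ⟨(ShortComplex.ab_exact_iff S).2 fun m hm => by
      obtain ⟨z, hz⟩ := (QuotientAddGroup.eq_zero_iff m).1 hm
      exact ⟨⟨z⟩, hz⟩⟩
    refine AffCritLib.isZero_rightDerived_mid (EtDual.secSupp j)
      (hS.map_of_exact (constantSheaf X.smallEtaleTopology AddCommGrpCat.{u + 1})) p (h ℓ hℓ hdvd) ?_
    haveI : Finite (↥M ⧸ a.range) := Finite.of_surjective _ (QuotientAddGroup.mk'_surjective a.range)
    refine ih (Nat.card (↥M ⧸ a.range)) ?_ Q rfl fun q hq hqd => h q hq (hqd.trans ?_)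
    · rw [← hn, AddSubgroup.card_eq_card_quotient_mul_card_addSubgroup a.range]
      refine lt_mul_of_one_lt_right Nat.card_pos ?_
      rw [← Nat.card_congr (AddMonoidHom.ofInjective ha).toEquiv, Nat.card_zmod]
      exact hℓ.one_lt
    · rw [← hn, AddSubgroup.card_eq_card_quotient_mul_card_addSubgroup a.range]
      exact dvd_mul_right _ _

/-- Vanishing of local cohomology groups from vanishing of local cohomology sheaves. -/
theorem isZero_HY_of_isZero_locCoh [EtCoh.BCCont j] (F : EtCoh.Ab X) (N : ℕ)
    (h : ∀ p ≤ N, IsZero ((EtDual.locCoh j p).obj F)) : IsZero ((EtDual.HY j N).obj F) := by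
  obtain ⟨e⟩ := SuppCoh.nonempty_HY_iso_sections j F N fun p hp => h p hp.le
  exact ((SuppCoh.gs X).map_isZero (h N le_rfl)).of_iso e

end Groth.Agent.EtPurLib
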